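import Cfsg.Agent.H365.SporCheck
import Cfsg.Agent.OrdDiv.Table
import Cfsg.Agent.H824.ProdLem
import Cfsg.Agent.Prune
set_option linter.all false
prune_inst 0x7f00000000000000000000000000000000000000000000000000000000000000000000000000000000000000000000000000000000000000000000000000000000000000000000000000000000000000003fffffffffffffffffffffffffffbeffbdffffffff
open scoped Cfsg.Agent.FastGrp

/-!
# HN: simple groups whose order divides `|HN|` and whose automorphism group has order divisible by `2 ^ 14` (helper280)
-/

set_option autoImplicit false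
set_option maxRecDepth 10000

namespace Cfsg.Agent.H280.HNArith

open Cfsg Cfsg.Agent.OrdDiv Cfsg.Agent.H365.SporCheck Cfsg.Agent.H902 Cfsg.Agent.H902.Names

universe u

/-- the factorization -/
def ll : List (ℕ × ℕ) := [(2, 14), (3, 6), (5, 6), (7, 1), (11, 1), (19, 1)]

theorem valid_ll : valid ll 273030912000000 = true := by decide +kernel

theorem chk : ((cands ll 273030912000000).all fun g => Nat.beq (ordN g) 273030912000000 ||
    (okC g && !(Nat.beq ((outC g * ordN g) % 16384) 0)) || decide (g = .alt 5) || decide (g = .alt 6) ||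
    decide (g = .oplus 4 2)) = true := by decide +kernel

/-- **The simple groups** -/
theorem arith {L : Type u} [Group L] [Finite L] [IsSimpleGroup L] (hk : IsKnownSimple' L)
    (hna : ¬ ∀ a b : L, a * b = b * a) (hd : Nat.card L ∣ 273030912000000) :
    Nat.card L = 273030912000000 ∨ ¬ 16384 ∣ Nat.card (MulAut L) := by
  have hna' : ¬ IsMulCommutative L := fun hc => hna fun a b => hc.is_comm.comm a b
  obtain ⟨g, hg, hr, hc⟩ := exists_good OrdDiv.table hk hna valid_ll hd
  have hm := H934.OutB.card_out_mul L hna'
  have h1 := List.all_eq_true.1 chk g hg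
  simp only [Bool.or_eq_true, Bool.and_eq_true, decide_eq_true_eq, Bool.not_eq_true'] at h1
  rcases h1 with (((h1 | ⟨h1, h2⟩) | h1) | h1) | h1
  · left
    rw [hc, Nat.eq_of_beq_eq_true h1]
  · right
    intro h3
    have h4 := out_dvd OrdDiv.table hna g h1 hr
    have h5 : 16384 ∣ outC g * ordN g := by
      rw [← hm, hc] at h3
      exact h3.trans (Nat.mul_dvd_mul_right h4 _)
    rw [Nat.mod_eq_zero_of_dvd h5] at h2
    exact absurd h2 (by decide)
  · right
    subst h1
    obtain ⟨e⟩ := hr
    rw [← hm, card_out_congr e, H489.card_out_alt (by norm_num) (by norm_num), hc]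
    decide +kernel
  · right
    subst h1
    obtain ⟨e⟩ := hr
    rw [Nat.card_congr (MulAut.congr e).toEquiv, H824.ProdLem.card_aut_a6]
    norm_num
  · right
    subst h1
    intro h3
    have h' := hr
    obtain ⟨F, _, _, hF, ⟨e⟩⟩ := h'
    have h4 : Art.Real (.D 4) 2 1 (Nat.card L) := by
      rw [Nat.card_congr e.toEquiv]
      exact oplus_real Nat.prime_two (by norm_num) (by rw [hF]; norm_num) (by norm_num)
    have hg' : IsLie (.oplus 4 2) (.D 4) 2 1 := by
      have := IsLie.oplus 4 2 1
      rwa [pow_one] at this
    obtain ⟨c, h5, -, h6⟩ := H364.OutLie.card_out hna hg' hr h4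
    have h7 : c ∣ 6 := by
      have h8 := h6 rfl
      have h9 : Art.dd (.D 4) (2 ^ 1) = 1 := by decide +kernel
      rwa [h9, mul_one] at h8
    rw [← hm, h5, mul_one, hc] at h3
    have h10 : 16384 ∣ 6 * ordN (.oplus 4 2) := h3.trans (Nat.mul_dvd_mul_right h7 _)
    exact absurd h10 (by decide +kernel)

end Cfsg.Agent.H280.HNArith
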